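import Groth.Agent.NwdImage.FiniteDense
import Groth.Agent.FFColimMin.Basic

/-!
A quasi-finite morphism over a generic point of a component is finite nearby.
-/

set_option linter.style.haveILetI false

universe u

open CategoryTheory AlgebraicGeometry Limits TopologicalSpace

namespace Groth.Agent.GenericFinite

variable {X Y : Scheme.{u}}

/-- A generic point of a component is maximal for generization. -/
lemma eq_of_specializes {η : Y} (h : closure {η} ∈ irreducibleComponents Y) {a : Y} (ha : a ⤳ η) : a = η :=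
  (ha.antisymm (specializes_iff_closure_subset.2
    (h.2 isIrreducible_singleton.closure (specializes_iff_closure_subset.1 ha)))).eq

/-- Conversely, a point maximal for generization is the generic point of a component. -/
lemma mem_components_of_forall {η : Y} (h : ∀ a : Y, a ⤳ η → a = η) : closure {η} ∈ irreducibleComponents Y := by
  obtain ⟨Z, hZ, hηZ⟩ : ∃ Z ∈ irreducibleComponents Y, η ∈ Z :=
    ⟨_, irreducibleComponent_mem_irreducibleComponents η, mem_irreducibleComponent⟩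
  obtain ⟨a, ha⟩ := QuasiSober.sober hZ.1 (isClosed_of_mem_irreducibleComponents Z hZ)
  obtain rfl := h a (ha.specializes hηZ)
  rwa [ha.def]

/-- The prime of a generic point in an affine open is minimal. -/
lemma primeIdealOf_mem_minimalPrimes {V : Y.Opens} (hV : IsAffineOpen V) {η : Y} (hη : η ∈ V)
    (hmax : ∀ a : Y, a ⤳ η → a = η) : (hV.primeIdealOf ⟨η, hη⟩).asIdeal ∈ minimalPrimes Γ(Y, V) := by
  let p := hV.primeIdealOf ⟨η, hη⟩
  have hp : hV.fromSpec p = η := hV.fromSpec_primeIdealOf _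
  refine ⟨⟨p.2, bot_le⟩, fun q hq hle => ?_⟩
  have hs : (⟨q, hq.1⟩ : PrimeSpectrum Γ(Y, V)) ⤳ p := (PrimeSpectrum.le_iff_specializes _ _).1 hle
  have hs' : hV.fromSpec (⟨q, hq.1⟩ : PrimeSpectrum Γ(Y, V)) ⤳ η := hp ▸ hs.map hV.fromSpec.continuous
  have heq : hV.fromSpec (⟨q, hq.1⟩ : PrimeSpectrum Γ(Y, V)) = hV.fromSpec p := (hmax _ hs').trans hp.symm
  exact le_of_eq (congrArg PrimeSpectrum.asIdeal (hV.fromSpec.isOpenEmbedding.injective heq)).symm

lemma mem_basicOpen_iff_notMem {V : Y.Opens} (hV : IsAffineOpen V) {η : Y} (hη : η ∈ V) (c : Γ(Y, V)) :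
    η ∈ Y.basicOpen c ↔ c ∉ (hV.primeIdealOf ⟨η, hη⟩).asIdeal := by
  conv_lhs => rw [show η = hV.fromSpec (hV.primeIdealOf ⟨η, hη⟩) from (hV.fromSpec_primeIdealOf ⟨η, hη⟩).symm]
  exact SetLike.ext_iff.1 (hV.fromSpec_preimage_basicOpen c) _

/-- A generic point in the closure of a quasi-compact open lies in it. -/
lemma mem_of_mem_closure [QuasiSeparatedSpace Y] {O : Y.Opens} (hO : IsCompact (O : Set Y)) {η : Y}
    (hmax : ∀ a : Y, a ⤳ η → a = η) (h : η ∈ closure (O : Set Y)) : η ∈ O := by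
  classical
  obtain ⟨_, ⟨W, hW, rfl⟩, hηW, -⟩ := Y.isBasis_affineOpens.exists_subset_of_mem_open (Set.mem_univ η) isOpen_univ
  have hc : IsCompact ((O : Set Y) ∩ W) :=
    QuasiSeparatedSpace.inter_isCompact _ _ O.2 hO W.2 hW.isCompact
  have hcov : ∀ u : ((O : Set Y) ∩ (W : Set Y) : Set Y), ∃ f : Γ(Y, W), Y.basicOpen f ≤ O ∧ (u : Y) ∈ Y.basicOpen f :=
    fun u => hW.exists_basicOpen_le (V := O) ⟨u.1, u.2.1⟩ u.2.2
  choose f hfle hfmem using hcov
  obtain ⟨t, ht⟩ := hc.elim_finite_subcover (fun u => (Y.basicOpen (f u) : Set Y)) (fun u => (Y.basicOpen (f u)).2)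
    (fun z hz => Set.mem_iUnion.2 ⟨⟨z, hz⟩, hfmem ⟨z, hz⟩⟩)
  have h1 : η ∈ closure (⋃ u ∈ t, (Y.basicOpen (f u) : Set Y)) :=
    closure_mono ht (W.2.closure_inter ⟨h, hηW⟩)
  rw [show (⋃ u ∈ t, (Y.basicOpen (f u) : Set Y)) = ⋃ u ∈ (t : Set _), (Y.basicOpen (f u) : Set Y) by simp,
    t.finite_toSet.closure_biUnion] at h1
  obtain ⟨u, -, hu⟩ := Set.mem_iUnion₂.1 h1
  refine hfle u ?_
  by_contra hnot
  obtain ⟨s, hs, n, hn⟩ := FFColimMin.exists_mul_pow_eq_zero (primeIdealOf_mem_minimalPrimes hW hηW hmax)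
    (not_not.1 fun hc => hnot ((mem_basicOpen_iff_notMem hW hηW _).2 hc))
  obtain ⟨z, hzs, hzf⟩ := mem_closure_iff.1 hu _ (Y.basicOpen s).2 ((mem_basicOpen_iff_notMem hW hηW _).2 hs)
  have hz : z ∈ Y.basicOpen (s * f u ^ (n + 1)) := by
    rw [Scheme.basicOpen_mul, Scheme.basicOpen_pow _ _ (Nat.succ_pos n)]
    exact ⟨hzs, hzf⟩
  rw [pow_succ, ← mul_assoc, hn, zero_mul, Scheme.basicOpen_zero] at hz
  exact hz.elim

/-- A closed set missing the fibre of a generic point misses the fibres nearby. -/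
lemma exists_nhd_disjoint (f : X ⟶ Y) [QuasiCompact f] {η : Y} (hmax : ∀ a : Y, a ⤳ η → a = η)
    {K : Set X} (hK : IsClosed K) (h : ∀ x ∈ K, f x ≠ η) :
    ∃ V : Y.Opens, IsAffineOpen V ∧ η ∈ V ∧ ∀ x ∈ K, f x ∉ V := by
  classical
  obtain ⟨_, ⟨V, hV, rfl⟩, hηV, -⟩ := Y.isBasis_affineOpens.exists_subset_of_mem_open (Set.mem_univ η) isOpen_univ
  let p := hV.primeIdealOf ⟨η, hηV⟩
  have hpmin := primeIdealOf_mem_minimalPrimes hV hηV hmax
  have hloc : ∀ U : {U : X.affineOpens // (U : X.Opens) ≤ f ⁻¹ᵁ V},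
      ∃ t : Γ(Y, V), t ∉ p.asIdeal ∧ ∀ x ∈ K, x ∈ (U.1 : X.Opens) → f x ∉ Y.basicOpen t := by
    rintro ⟨⟨U, hU⟩, hUV⟩
    let φ := (f.appLE V U hUV).hom
    obtain ⟨J, hJ⟩ := (PrimeSpectrum.isClosed_iff_zeroLocus_ideal _).1 (hK.preimage hU.fromSpec.continuous)
    let S : Submonoid Γ(X, U) := p.asIdeal.primeCompl.map φ.toMonoidHom
    by_cases hd : Disjoint (J : Set Γ(X, U)) (S : Set Γ(X, U))
    · obtain ⟨Q, hQ, hJQ, hQS⟩ := Ideal.exists_le_prime_disjoint J S hd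
      let q : PrimeSpectrum Γ(X, U) := ⟨Q, hQ⟩
      have hqp : Q.comap φ ≤ p.asIdeal := fun a ha => by
        by_contra hap
        exact Set.disjoint_left.1 hQS ha ⟨a, hap, rfl⟩
      have heq : Spec.map (f.appLE V U hUV) q = p :=
        PrimeSpectrum.ext (le_antisymm hqp (hpmin.2 ⟨hQ.comap φ, bot_le⟩ hqp))
      refine absurd ?_ (h (hU.fromSpec q) (hJ.ge hJQ))
      rw [← Scheme.Hom.comp_apply, ← hV.SpecMap_appLE_fromSpec f hU hUV, Scheme.Hom.comp_apply, heq]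
      exact hV.fromSpec_primeIdealOf _
    · obtain ⟨_, hJt, t, ht, rfl⟩ := Set.not_disjoint_iff.1 hd
      refine ⟨t, ht, fun x hxK hxU hxt => ?_⟩
      obtain ⟨q, rfl⟩ := hU.range_fromSpec.ge hxU
      have hJq : J ≤ q.asIdeal := hJ.le hxK
      rw [← Scheme.Hom.comp_apply, ← hV.SpecMap_appLE_fromSpec f hU hUV, Scheme.Hom.comp_apply] at hxt
      exact (SetLike.ext_iff.1 (hV.fromSpec_preimage_basicOpen t) (Spec.map (f.appLE V U hUV) q)).1 hxt (hJq hJt)
  choose t ht hKt using hloc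
  obtain ⟨s, hs⟩ := (f.isCompact_preimage hV.isCompact).elim_finite_subcover
    (ι := {U : X.affineOpens // (U : X.Opens) ≤ f ⁻¹ᵁ V}) (fun U => ((U.1 : X.Opens) : Set X)) (fun U => U.1.1.2)
    (fun x hx => by
      obtain ⟨_, ⟨U, hU, rfl⟩, hxU, hUV⟩ := X.isBasis_affineOpens.exists_subset_of_mem_open
        (show x ∈ f ⁻¹ᵁ V from hx) (f ⁻¹ᵁ V).isOpen
      exact Set.mem_iUnion.2 ⟨⟨⟨U, hU⟩, hUV⟩, hxU⟩)
  refine ⟨Y.basicOpen (∏ U ∈ s, t U), hV.basicOpen _, (mem_basicOpen_iff_notMem hV hηV _).2 ?_, fun x hxK hx => ?_⟩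
  · intro hmem
    obtain ⟨U, -, hU⟩ := (Ideal.IsPrime.prod_mem_iff (hp := p.2)).1 hmem
    exact ht U hU
  · obtain ⟨U, hUs, hxU⟩ := Set.mem_iUnion₂.1 (hs (show x ∈ f ⁻¹' (V : Set Y) from Y.basicOpen_le _ hx))
    refine hKt U x hxK hxU ?_
    rw [← Finset.mul_prod_erase _ _ hUs, Scheme.basicOpen_mul] at hx
    exact hx.1

/-- A point over a generic point, of a quasi-finite morphism, is generic. -/
lemma forall_eq_of_quasiFinite (g : X ⟶ Y) [LocallyQuasiFinite g] {η : Y} (hmax : ∀ a : Y, a ⤳ η → a = η)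
    {z : X} (hz : g z = η) : ∀ a : X, a ⤳ z → a = z := fun a ha => by
  have hga : g a = η := hmax _ (hz ▸ ha.map g.continuous)
  have : DiscreteTopology (g ⁻¹' {η}) := (g.isDiscrete_preimage_singleton η).to_subtype
  have h1 : (⟨a, hga⟩ : g ⁻¹' {η}) ⤳ ⟨z, hz⟩ := (subtype_specializes_iff _ _).2 ha
  exact congrArg Subtype.val (specializes_iff_eq.1 h1)

/-- Points with finite fibre are quasi-finite points. -/
lemma quasiFiniteAt_of_finite (f : X ⟶ Y) [LocallyOfFiniteType f] {x : X} (h : (f ⁻¹' {f x}).Finite) :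
    f.QuasiFiniteAt x := by
  have : Finite (f.fiber (f x)) := (f.fiberHomeo (f x)).finite_iff.mpr h
  exact Scheme.Hom.quasiFiniteAt_iff_isOpen_singleton_asFiber.mpr (isOpen_discrete _)

/-- Finite fibre over a generic point gives quasi-finiteness nearby. -/
lemma exists_nhd_quasiFinite (f : X ⟶ Y) [LocallyOfFiniteType f] [QuasiCompact f] {η : Y}
    (hmax : ∀ a : Y, a ⤳ η → a = η) (h : (f ⁻¹' {η}).Finite) :
    ∃ V : Y.Opens, IsAffineOpen V ∧ η ∈ V ∧ f ⁻¹ᵁ V ≤ f.quasiFiniteLocus := by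
  obtain ⟨V, hV, hηV, hd⟩ := exists_nhd_disjoint f hmax f.quasiFiniteLocus.isOpen.isClosed_compl
    fun x hx he => hx (Scheme.Hom.mem_quasiFiniteLocus.2 (quasiFiniteAt_of_finite f (he.symm ▸ h)))
  exact ⟨V, hV, hηV, fun x hx => by_contra fun hn => hd x hn hx⟩

lemma locallyQuasiFinite_morphismRestrict (f : X ⟶ Y) [LocallyOfFiniteType f] {V : Y.Opens}
    (h : f ⁻¹ᵁ V ≤ f.quasiFiniteLocus) : LocallyQuasiFinite (f ∣_ V) := by
  rw [← Scheme.Hom.quasiFiniteLocus_eq_top_iff]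
  ext x
  have : f.QuasiFiniteAt ((f ⁻¹ᵁ V).ι x) := Scheme.Hom.mem_quasiFiniteLocus.1 (h x.2)
  rw [← Scheme.Hom.quasiFiniteAt_comp_iff_of_isOpenImmersion, ← morphismRestrict_ι,
    Scheme.Hom.quasiFiniteAt_comp_iff] at this
  simpa

/-- Finiteness passes to smaller opens. -/
lemma isFinite_restrict_of_le (f : X ⟶ Y) {V W : Y.Opens} (hle : W ≤ V) (h : IsFinite (f ∣_ V)) :
    IsFinite (f ∣_ W) := by
  have h1 : IsFinite (f ∣_ V ∣_ (V.ι ⁻¹ᵁ W)) := IsZariskiLocalAtTarget.restrict h _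
  have h2 := (MorphismProperty.arrow_mk_iso_iff @IsFinite (morphismRestrictRestrict f V _)).mp h1
  rwa [Scheme.Hom.image_preimage_eq_opensRange_inf, Scheme.Opens.opensRange_ι, inf_eq_right.mpr hle] at h2

lemma isFinite_nhd_affine {Y X : Scheme.{u}} (g : Y ⟶ X) [IsAffine X] [LocallyQuasiFinite g]
    [LocallyOfFiniteType g] [QuasiCompact g] [QuasiSeparated g] (η : X) (hmax : ∀ a : X, a ⤳ η → a = η) :
    ∃ N : X.Opens, η ∈ N ∧ IsFinite (g ∣_ N) := by
  classical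
  haveI : CompactSpace Y := QuasiCompact.compactSpace_of_compactSpace g
  haveI : QuasiSeparatedSpace Y := quasiSeparatedSpace_of_quasiSeparated g
  have hfac : ∀ y : Y, ∃ (O : Y.Opens) (Z : Scheme.{u}) (j : (O : Scheme.{u}) ⟶ Z) (π : Z ⟶ X),
      y ∈ O ∧ IsCompact (O : Set Y) ∧ IsOpenImmersion j ∧ IsFinite π ∧ j ≫ π = O.ι ≫ g := by
    intro y
    obtain ⟨O, Z, j, π, hy, hj, hπ, e⟩ := NwdImage.exists_nhd_finite_factor g y
    obtain ⟨_, ⟨U, hU, rfl⟩, hyU, hUO⟩ := Y.isBasis_affineOpens.exists_subset_of_mem_open hy O.2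
    exact ⟨U, Z, Y.homOfLE hUO ≫ j, π, hyU, hU.isCompact, inferInstance, hπ,
      by rw [Category.assoc, e, Scheme.homOfLE_ι_assoc]⟩
  choose O Z j π hyO hOc hj hπ hjπ using hfac
  obtain ⟨s, hs⟩ := isCompact_univ.elim_finite_subcover (fun y => (O y : Set Y)) (fun y => (O y).2)
    (fun z _ => Set.mem_iUnion.mpr ⟨z, hyO z⟩)
  have hN1 : ∀ y : Y, ∃ V : X.Opens, η ∈ V ∧ (∀ z ∈ closure (O y : Set Y) \ O y, g z ∉ V) ∧
      ∀ z ∈ closure (Set.range (j y)) \ Set.range (j y), π y z ∉ V := by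
    intro y
    haveI := hj y
    haveI := hπ y
    haveI : IsAffine (Z y) := isAffine_of_isAffineHom (π y)
    haveI : CompactSpace (O y : Scheme.{u}) := isCompact_iff_compactSpace.1 (hOc y)
    obtain ⟨V₁, -, h₁, hd₁⟩ := exists_nhd_disjoint g hmax (isClosed_closure.sdiff (O y).2) fun z hz he =>
      hz.2 (mem_of_mem_closure (hOc y) (forall_eq_of_quasiFinite g hmax he) hz.1)
    obtain ⟨V₂, -, h₂, hd₂⟩ := exists_nhd_disjoint (π y) hmax
      (isClosed_closure.sdiff (j y).isOpenEmbedding.isOpen_range) fun z hz he =>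
      hz.2 (mem_of_mem_closure (O := (j y).opensRange) (isCompact_range (j y).continuous)
        (forall_eq_of_quasiFinite (π y) hmax he) hz.1)
    exact ⟨V₁ ⊓ V₂, ⟨h₁, h₂⟩, fun z hz hv => hd₁ z hz hv.1, fun z hz hv => hd₂ z hz hv.2⟩
  choose V hηV hV₁ hV₂ using hN1
  let N : X.Opens := s.inf V
  have hηN : η ∈ N := by
    refine Finset.inf_induction (p := fun W : X.Opens => η ∈ W) trivial (fun a ha b hb => ⟨ha, hb⟩) fun y _ => hηV y
  have hNle : ∀ y ∈ s, N ≤ V y := fun y hy => Finset.inf_le hy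
  let Y' : Y.Opens := g ⁻¹ᵁ N
  let W : Y → (Y' : Scheme.{u}).Opens := fun y => Y'.ι ⁻¹ᵁ O y
  have hWcl : ∀ y ∈ s, IsClosed (W y : Set (Y' : Scheme.{u})) := by
    intro y hy
    have : (W y : Set (Y' : Scheme.{u})) = Y'.ι ⁻¹' closure (O y : Set Y) := by
      ext z
      refine ⟨fun hz => subset_closure hz, fun hz => ?_⟩
      by_contra h
      exact hV₁ y _ ⟨hz, h⟩ (hNle y hy z.2)
    rw [this]
    exact isClosed_closure.preimage Y'.ι.continuous
  have hWfin : ∀ y ∈ s, IsFinite ((W y).ι ≫ g ∣_ N) := by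
    intro y hy
    haveI := hj y
    haveI := hπ y
    haveI : IsClosedImmersion (j y ∣_ (π y ⁻¹ᵁ N)) := by
      refine IsClosedImmersion.of_isPreimmersion _ ?_
      have : Set.range (j y ∣_ (π y ⁻¹ᵁ N)) =
          (π y ⁻¹ᵁ N).ι ⁻¹' closure (Set.range (j y)) := by
        ext z
        constructor
        · rintro ⟨w, rfl⟩
          refine subset_closure ⟨(j y ⁻¹ᵁ π y ⁻¹ᵁ N).ι w, ?_⟩
          rw [← Scheme.Hom.comp_apply, ← Scheme.Hom.comp_apply, morphismRestrict_ι]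
        · intro hz
          obtain ⟨w, hw⟩ : (π y ⁻¹ᵁ N).ι z ∈ Set.range (j y) := by
            by_contra h
            exact hV₂ y _ ⟨hz, h⟩ (hNle y hy z.2)
          refine ⟨⟨w, ?_⟩, ?_⟩
          · show j y w ∈ π y ⁻¹ᵁ N
            rw [hw]; exact z.2
          · apply (π y ⁻¹ᵁ N).ι.isOpenEmbedding.injective
            rw [← Scheme.Hom.comp_apply, morphismRestrict_ι, Scheme.Hom.comp_apply]
            exact hw
      rw [this]
      exact isClosed_closure.preimage (π y ⁻¹ᵁ N).ι.continuous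
    haveI : IsFinite (π y ∣_ N) := IsZariskiLocalAtTarget.restrict ‹_› N
    have h1 : IsFinite ((j y ≫ π y) ∣_ N) := by
      rw [morphismRestrict_comp]
      exact MorphismProperty.comp_mem @IsFinite _ _ (inferInstance : IsFinite (j y ∣_ (π y ⁻¹ᵁ N))) this
    rw [hjπ y, morphismRestrict_comp] at h1
    refine (MorphismProperty.cancel_left_of_respectsIso @IsFinite
      (IsOpenImmersion.isoOfRangeEq ((O y).ι ∣_ Y') (W y).ι ?_).hom _).mp ?_
    · rw [Scheme.Opens.range_ι]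
      ext z
      constructor
      · rintro ⟨w, rfl⟩
        show Y'.ι ((O y).ι ∣_ Y' |>.base w) ∈ O y
        rw [← Scheme.Hom.comp_apply, morphismRestrict_ι, Scheme.Hom.comp_apply]
        exact ((O y).ι ⁻¹ᵁ Y').ι w |>.2
      · intro hz
        refine ⟨⟨⟨Y'.ι z, hz⟩, ?_⟩, ?_⟩
        · show (O y).ι ⟨Y'.ι z, hz⟩ ∈ Y'
          exact z.2
        · apply Y'.ι.isOpenEmbedding.injective
          rw [← Scheme.Hom.comp_apply, morphismRestrict_ι, Scheme.Hom.comp_apply]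
          rfl
    · rw [← Category.assoc, IsOpenImmersion.isoOfRangeEq_hom_fac]
      exact h1
  refine ⟨N, hηN, ?_⟩
  rcases s.eq_empty_or_nonempty with hse | hne
  · haveI : IsEmpty Y := ⟨fun z => by simpa [hse] using hs (Set.mem_univ z)⟩
    haveI : IsEmpty (Y' : Scheme.{u}) := ⟨fun z => IsEmpty.false (Y'.ι z)⟩
    infer_instance
  · obtain ⟨-, hf⟩ := NwdImage.isFinite_of_clopen_cover (g ∣_ N) s W hWcl hWfin hne
    have htop : s.sup W = ⊤ := by
      refine eq_top_iff.mpr fun z _ => ?_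
      obtain ⟨y, hy, hz⟩ := Set.mem_iUnion₂.mp (hs (Set.mem_univ (Y'.ι z)))
      exact (Finset.le_sup (f := W) hy) hz
    rw [htop] at hf
    exact (MorphismProperty.cancel_left_of_respectsIso @IsFinite (Scheme.topIso (Y' : Scheme.{u})).hom _).mp hf

/-- Finite fibre over a generic point: finite over an affine neighbourhood. -/
theorem finite_preimage_iff (f : X ⟶ Y) [LocallyOfFiniteType f] [QuasiCompact f] [QuasiSeparated f] (η : Y)
    (hη : closure {η} ∈ irreducibleComponents Y) :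
    (f ⁻¹' {η}).Finite ↔ ∃ V : Y.Opens, IsAffineOpen V ∧ η ∈ V ∧ IsFinite (f ∣_ V) := by
  have hmax : ∀ a : Y, a ⤳ η → a = η := fun a => eq_of_specializes hη
  constructor
  · intro h
    obtain ⟨V, hV, hηV, hle⟩ := exists_nhd_quasiFinite f hmax h
    haveI : IsAffine (V : Scheme.{u}) := hV
    haveI := locallyQuasiFinite_morphismRestrict f hle
    haveI : LocallyOfFiniteType (f ∣_ V) := IsZariskiLocalAtTarget.restrict ‹_› V
    haveI : QuasiCompact (f ∣_ V) := IsZariskiLocalAtTarget.restrict ‹_› V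
    haveI : QuasiSeparated (f ∣_ V) := IsZariskiLocalAtTarget.restrict ‹_› V
    obtain ⟨N, hN, hfin⟩ := isFinite_nhd_affine (f ∣_ V) ⟨η, hηV⟩
      fun a ha => Subtype.ext (hmax _ (ha.map continuous_subtype_val))
    have hfin' : IsFinite (f ∣_ (V.ι ''ᵁ N)) :=
      (MorphismProperty.arrow_mk_iso_iff @IsFinite (morphismRestrictRestrict f V N)).mp hfin
    obtain ⟨_, ⟨W, hW, rfl⟩, hηW, hWN⟩ := Y.isBasis_affineOpens.exists_subset_of_mem_open
      (show η ∈ V.ι ''ᵁ N from ⟨⟨η, hηV⟩, hN, rfl⟩) (V.ι ''ᵁ N).2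
    exact ⟨W, hW, hηW, isFinite_restrict_of_le f hWN hfin'⟩
  · rintro ⟨V, -, hηV, hfin⟩
    refine (((f ∣_ V).finite_preimage_singleton (⟨η, hηV⟩ : V)).image (f ⁻¹ᵁ V).ι).subset fun x hx => ?_
    refine ⟨⟨x, show f x ∈ V from hx.symm ▸ hηV⟩, V.ι.isOpenEmbedding.injective ?_, rfl⟩
    rw [← Scheme.Hom.comp_apply, morphismRestrict_ι, Scheme.Hom.comp_apply]
    exact hx

/-- Finite over a dense open when generic points correspond. -/
theorem exists_dense_finite (f : X ⟶ Y) [LocallyOfFiniteType f] [QuasiCompact f]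
    (hX : (irreducibleComponents X).Finite) (_hY : (irreducibleComponents Y).Finite)
    (hgen : ∀ x : X, closure {x} ∈ irreducibleComponents X ↔ closure {f x} ∈ irreducibleComponents Y) :
    ∃ V : Y.Opens, Dense (V : Set Y) ∧ IsFinite (f ∣_ V) := by
  let S := {η : Y // closure {η} ∈ irreducibleComponents Y}
  have hV : ∀ η : S, ∃ V : Y.Opens, IsAffineOpen V ∧ η.1 ∈ V ∧ f ⁻¹ᵁ V ≤ f.quasiFiniteLocus := fun η =>
    exists_nhd_quasiFinite f (fun a => eq_of_specializes η.2) <|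
      (hX.preimage (f := fun x : X => closure {x})
        (fun _ _ _ _ e => (inseparable_iff_closure_eq.2 e).eq)).subset fun x hx => (hgen x).2 (by rw [show f x = η.1 from hx]; exact η.2)
  choose V hVaff hηV hVle using hV
  let Ω : Y.Opens := ⨆ η, V η
  have hle : f ⁻¹ᵁ Ω ≤ f.quasiFiniteLocus := fun x hx => by
    obtain ⟨η, hη⟩ := Opens.mem_iSup.1 (show f x ∈ Ω from hx)
    exact hVle η hη
  haveI := locallyQuasiFinite_morphismRestrict f hle
  haveI : LocallyOfFiniteType (f ∣_ Ω) := IsZariskiLocalAtTarget.restrict ‹_› Ω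
  haveI : QuasiCompact (f ∣_ Ω) := IsZariskiLocalAtTarget.restrict ‹_› Ω
  obtain ⟨N, hN, hfin⟩ := NwdImage.exists_dense_isFinite (f ∣_ Ω)
  refine ⟨Ω.ι ''ᵁ N, ?_, (MorphismProperty.arrow_mk_iso_iff @IsFinite (morphismRestrictRestrict f Ω N)).mp hfin⟩
  rw [dense_iff_inter_open]
  intro G hG ⟨y, hy⟩
  obtain ⟨η, hη⟩ := QuasiSober.sober (irreducibleComponent_mem_irreducibleComponents y).1 isClosed_irreducibleComponent
  have hηc : closure {η} ∈ irreducibleComponents Y := hη.def.symm ▸ irreducibleComponent_mem_irreducibleComponents y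
  have hηG : η ∈ G := (hη.specializes mem_irreducibleComponent).mem_open hG hy
  have hηΩ : η ∈ Ω := Opens.mem_iSup.2 ⟨⟨η, hηc⟩, hηV _⟩
  obtain ⟨w, hwG, hwN⟩ := hN.inter_open_nonempty (Ω.ι ⁻¹' G) (hG.preimage Ω.ι.continuous) ⟨⟨η, hηΩ⟩, hηG⟩
  exact ⟨Ω.ι w, hwG, w, hwN, rfl⟩

end Groth.Agent.GenericFinite
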